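import Groth.Agent.ModSiteHom.Acyclic
import Groth.Agent.SiteCoh.TotAcyclicPush
import Groth.Prelude.Def_DCoh4
import Mathlib.CategoryTheory.Monoidal.Braided.Basic

/-!
Totally acyclic sheaves have surjective restrictions along monomorphisms; the sheaf Hom into an
injective module is flasque.
-/

set_option autoImplicit false
set_option linter.style.haveILetI false
set_option backward.isDefEq.respectTransparency false
set_option backward.defeqAttrib.useBackward true

universe u

open CategoryTheory Category Limits Opposite MonoidalCategory AlgebraicGeometry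

namespace Groth.Agent.W7Flasque

open Groth.Agent.SiteCoh

variable {C : Type u} [SmallCategory C] {J : GrothendieckTopology C}

theorem restriction_surjective {F : Sheaf J AddCommGrpCat.{u}} (hF : CohCx.IsTotallyAcyclic F)
    {U V : C} (i : V ⟶ U) [Mono i] : Function.Surjective (F.obj.map i.op) := by
  intro s
  let L := presheafToSheaf J (Type u)
  haveI : Mono (L.map (yoneda.map i)) := inferInstance
  let η : ∀ W : C, CohCx.freeSheaf J W ⟶ (FR J).obj (L.obj (yoneda.obj W)) := fun W =>
    (presheafToSheaf J AddCommGrpCat.{u}).map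
      (Functor.whiskerRight (toSheafify J (yoneda.obj W)) AddCommGrpCat.free.{u})
  haveI : ∀ W, IsIso (η W) := fun W => isIso_free_toSheafify _
  have hη : CohCx.freeSheafMap J i ≫ η U = η V ≫ (FR J).map (L.map (yoneda.map i)) := by
    change (presheafToSheaf J _).map _ ≫ (presheafToSheaf J _).map _ =
      (presheafToSheaf J _).map _ ≫ (presheafToSheaf J _).map _
    rw [← Functor.map_comp, ← Functor.map_comp]
    congr 1
    rw [← Functor.whiskerRight_comp]
    refine Eq.trans ?_ (Functor.whiskerRight_comp _ _ _)
    exact congrArg (fun t => Functor.whiskerRight t AddCommGrpCat.free.{u})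
      (toSheafify_naturality J (yoneda.map i))
  obtain ⟨t, ht⟩ := hk0_surjective hF (L.map (yoneda.map i)) (inv (η V) ≫ (secEquiv V F).symm s)
  refine ⟨secEquiv U F (η U ≫ t), ?_⟩
  rw [← secEquiv_freeSheafMap, ← assoc, hη, assoc, ht, IsIso.hom_inv_id_assoc,
    AddEquiv.apply_symm_apply]

section Scheme

variable {X : Scheme.{u}}

/-- the two tensor products on modules over a scheme agree -/
noncomputable def tensorIso (M : X.Modules) :
    (ModSite.tensorBi X.sheaf).flip.obj M ≅ (DCoh.tensorBi (X := X)).obj M :=
  Functor.isoWhiskerLeft DCoh.toP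
    (Functor.isoWhiskerRight
      (BraidedCategory.tensorLeftIsoTensorRight (C := CohB1.PMod X) (DCoh.toP.obj M)).symm DCoh.shP)

theorem sheafHom_restriction_surjective (F I : X.Modules) [DCoh.HasSheafHom F] (hI : Injective I)
    {U V : X.Opens} (hUV : U ≤ V) :
    Function.Surjective (((DCoh.sheafHom F).obj I).val.map (homOfLE hUV).op).hom := by
  haveI : ModSite.HasSheafHom (O := X.sheaf) F := ModSiteTensor.hasSheafHom (O := X.sheaf) F
  let e : ModSite.sheafHom (O := X.sheaf) F ≅ DCoh.sheafHom F :=
    (ModSite.sheafHomAdj (O := X.sheaf) F).rightAdjointUniq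
      ((DCoh.sheafHomAdj F).ofNatIsoLeft (tensorIso F).symm)
  haveI : Injective (show ModSite.Mod X.sheaf from I) := hI
  have h := ModSiteHom.isTotallyAcyclic_sheafHom_injective (O := X.sheaf) F I
  have h' := restriction_surjective h (homOfLE hUV)
  intro y
  let e' := (SheafOfModules.toSheaf _).mapIso (e.app I)
  obtain ⟨x, hx⟩ := h' (e'.inv.hom.app (op U) y)
  refine ⟨e'.hom.hom.app (op V) x, ?_⟩
  refine (NatTrans.naturality_apply e'.hom.hom (homOfLE hUV).op x).symm.trans ?_
  refine (congrArg (e'.hom.hom.app (op U)) hx).trans ?_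
  exact ConcreteCategory.congr_hom (NatTrans.congr_app (congrArg (fun m => m.hom) e'.inv_hom_id) (op U)) y

end Scheme

end Groth.Agent.W7Flasque
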